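/-
A trivial-intersection subgroup containing an involution and the centralisers of its elements: the
action on the cosets of its normaliser is a Zassenhaus group.
-/
import Cfsg.Agent.Lib.Invol.Counting
import Cfsg.Agent.Lib.Solvable.FrobeniusComplement
import Cfsg.Agent.S0001
import Cfsg.Agent.S0205
import Cfsg.Prelude.Def_LieExceptional

set_option autoImplicit false
set_option linter.unusedSectionVars false

namespace CfsgLib.FrobSystem

open MulAction
open scoped Pointwise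

variable {G : Type*} [Group G] [Finite G]

/-- The standing hypotheses on `F` and `M`. -/
structure TI (M F : Subgroup G) : Prop where
  le : F ≤ M
  norm : ∀ g ∈ M, ∀ x ∈ F, g * x * g⁻¹ ∈ F
  cent : ∀ x ∈ F, x ≠ 1 → ∀ g : G, g * x = x * g → g ∈ F
  ti : ∀ g : G, g ∉ M → ∀ x ∈ F, g * x * g⁻¹ ∈ F → x = 1
  solv : Group.IsSolvable M
  insolv : ¬ Group.IsSolvable G
  even : 2 ∣ Nat.card F
  two : ∀ t ∈ F, orderOf t = 2 → ∃ s ∈ F, orderOf s = 2 ∧ s ≠ t

variable {M F : Subgroup G}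

theorem TI.ne_top (D : TI M F) : M ≠ ⊤ := by
  rintro rfl
  haveI := D.solv
  exact D.insolv (Group.isSolvable_of_surjective (f := (⊤ : Subgroup G).subtype)
    fun g => ⟨⟨g, Subgroup.mem_top g⟩, rfl⟩)

theorem TI.exists_invol (D : TI M F) : ∃ t ∈ F, orderOf t = 2 := by
  haveI : Fact (Nat.Prime 2) := ⟨Nat.prime_two⟩
  obtain ⟨t, ht⟩ := exists_prime_orderOf_dvd_card' (G := F) 2 D.even
  exact ⟨t, t.2, by rw [Subgroup.orderOf_coe, ht]⟩

/-- An element of `M` of order dividing `|F|` lies in `F`. -/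
theorem TI.mem_of_order (D : TI M F) {y : G} (hy : y ∈ M) (ho : orderOf y ∣ Nat.card F) : y ∈ F := by
  by_contra hyF
  have hfpf : ∀ a ∈ Subgroup.zpowers y, a ≠ 1 → F ⊓ Subgroup.centralizer {a} = ⊥ := by
    intro a ha ha1
    rw [Subgroup.eq_bot_iff_forall]
    rintro k ⟨hk, hkc⟩
    by_contra hk1
    have haF := D.cent k hk hk1 a (Subgroup.mem_centralizer_singleton_iff.1 hkc).symm
    obtain ⟨i, rfl⟩ := Subgroup.mem_zpowers_iff.1 ha
    exact hyF (D.cent _ haF ha1 y (Commute.self_zpow y i).eq)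
  have hco := CfsgLib.Solvable.coprime_card_of_fpf (A := Subgroup.zpowers y) (K := F) ?_ hfpf
  · rw [Nat.card_zpowers] at hco
    exact hyF (by rw [orderOf_eq_one_iff.1 (Nat.Coprime.eq_one_of_dvd hco ho)]; exact F.one_mem)
  · intro z hz
    have hzM : z ∈ M := Subgroup.zpowers_le.2 hy hz
    rw [Subgroup.mem_normalizer_iff]
    refine fun x => ⟨fun hx => D.norm z hzM x hx, fun hx => ?_⟩
    have := D.norm z⁻¹ (M.inv_mem hzM) _ hx
    simpa [mul_assoc] using this

theorem TI.invol_mem (D : TI M F) {v : G} (hv : orderOf v = 2) (hM : v ∈ M) : v ∈ F :=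
  D.mem_of_order hM (hv ▸ D.even)

/-- `F` meets the other conjugates of `M` trivially. -/
theorem TI.inter_conj (D : TI M F) {g x : G} (hg : g ∉ M) (hx : x ∈ F) (hxg : g⁻¹ * x * g ∈ M) :
    x = 1 := by
  have h : g⁻¹ * x * g ∈ F := D.mem_of_order hxg (by
    have e : orderOf (g⁻¹ * x * g) = orderOf x := by
      simpa using MulEquiv.orderOf_eq (MulAut.conj g⁻¹) x
    rw [e]
    exact F.orderOf_dvd_natCard hx)
  have := D.ti g⁻¹ (fun h' => hg (by simpa using M.inv_mem h')) x hx (by simpa using h)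
  exact this

/-- The base point. -/
abbrev base (M : Subgroup G) : G ⧸ M := ((1 : G) : G ⧸ M)

theorem stab_base : stabilizer G (base M) = M := MulAction.stabilizer_quotient M

theorem smul_base_eq {u : G} : u • base M = base M ↔ u ∈ M := by
  rw [← mem_stabilizer_iff, stab_base]

theorem fix_iff {u g : G} : u • (g : G ⧸ M) = (g : G ⧸ M) ↔ g⁻¹ * u * g ∈ M := by
  rw [MulAction.Quotient.smul_coe, QuotientGroup.eq, smul_eq_mul, ← inv_mem_iff, mul_inv_rev,
    inv_inv, mul_assoc]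

theorem coe_eq_base {g : G} : (g : G ⧸ M) = base M ↔ g ∈ M := by
  rw [QuotientGroup.eq, mul_one, inv_mem_iff]

theorem TI.free (D : TI M F) {x : G} (hx : x ∈ F) {p : G ⧸ M} (hp : p ≠ base M) (h : x • p = p) :
    x = 1 := by
  obtain ⟨g, rfl⟩ := QuotientGroup.mk_surjective p
  exact D.inter_conj (fun hg => hp (coe_eq_base.2 hg)) hx (fix_iff.1 h)

/-- The stabiliser of the base point and another point. -/
abbrev pair (M : Subgroup G) (p : G ⧸ M) : Subgroup G := M ⊓ stabilizer G p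

theorem TI.pair_inter (D : TI M F) {p : G ⧸ M} (hp : p ≠ base M) : pair M p ⊓ F = ⊥ := by
  rw [Subgroup.eq_bot_iff_forall]
  rintro x ⟨⟨-, hxp⟩, hx⟩
  exact D.free hx hp hxp

theorem TI.card_pair_mul_le (D : TI M F) {p : G ⧸ M} (hp : p ≠ base M) :
    Nat.card (pair M p) * Nat.card F ≤ Nat.card M := by
  rw [← Nat.card_prod]
  refine Nat.card_le_card_of_injective
    (fun z : pair M p × F => (⟨(z.2 : G) * z.1, M.mul_mem (D.le z.2.2) z.1.2.1⟩ : M)) ?_
  rintro ⟨⟨d, hd⟩, ⟨f, hf⟩⟩ ⟨⟨d', hd'⟩, ⟨f', hf'⟩⟩ h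
  have h' : f * d = f' * d' := congrArg Subtype.val h
  have h1 : f'⁻¹ * f = d' * d⁻¹ := by
    rw [eq_mul_inv_iff_mul_eq, mul_assoc, h', inv_mul_cancel_left]
  have h2 : f'⁻¹ * f = 1 := by
    have : f'⁻¹ * f ∈ pair M p ⊓ F :=
      ⟨h1 ▸ (pair M p).mul_mem hd' ((pair M p).inv_mem hd), F.mul_mem (F.inv_mem hf') hf⟩
    rwa [D.pair_inter hp, Subgroup.mem_bot] at this
  have h3 := inv_mul_eq_one.1 h2
  subst h3
  obtain rfl := mul_left_cancel h'
  rfl

/-- `|M : F|`. -/
noncomputable abbrev ee (M F : Subgroup G) : ℕ := (F.subgroupOf M).index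

theorem TI.card_M (D : TI M F) : Nat.card F * ee M F = Nat.card M := by
  rw [← Nat.card_congr (Subgroup.subgroupOfEquivOfLe D.le).toEquiv]
  exact Subgroup.card_mul_index _

theorem TI.card_pair_le (D : TI M F) {p : G ⧸ M} (hp : p ≠ base M) :
    Nat.card (pair M p) ≤ ee M F := by
  have h := D.card_pair_mul_le hp
  rw [← D.card_M, mul_comm (Nat.card F)] at h
  exact Nat.le_of_mul_le_mul_right h Nat.card_pos

/-- The involutions of `F`. -/
abbrev Inv (F : Subgroup G) := {x : G // x ∈ F ∧ orderOf x = 2}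

theorem TI.card_class_ge (D : TI M F) {t : G} (ht : t ∈ F) (ht2 : orderOf t = 2) :
    ee M F ≤ Nat.card (Inv F) ∧
      (Nat.card (Inv F) ≤ ee M F → ∀ v ∈ F, v * t = t * v) := by
  classical
  let act : M → Inv F := fun m => ⟨(m : G) * t * (m : G)⁻¹, D.norm m m.2 t ht, by
    rw [← ht2]; simpa using MulEquiv.orderOf_eq (MulAut.conj (m : G)) t⟩
  haveI := Fintype.ofFinite M
  let K : Subgroup M := (Subgroup.centralizer ({t} : Set G)).subgroupOf M
  let f : M ⧸ K → Inv F := fun z => Quotient.liftOn' z act fun a b h => by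
    rw [QuotientGroup.leftRel_apply, Subgroup.mem_subgroupOf,
      Subgroup.mem_centralizer_singleton_iff] at h
    refine Subtype.ext ?_
    show (a : G) * t * (a : G)⁻¹ = (b : G) * t * (b : G)⁻¹
    have h' : (a : G)⁻¹ * b * t = t * ((a : G)⁻¹ * b) := h
    calc (a : G) * t * (a : G)⁻¹ = a * (t * ((a : G)⁻¹ * b)) * (b : G)⁻¹ := by group
      _ = a * ((a : G)⁻¹ * b * t) * (b : G)⁻¹ := by rw [h']
      _ = _ := by group
  have hf : Function.Injective f := by
    intro z w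
    induction z using QuotientGroup.induction_on with
    | H a =>
      induction w using QuotientGroup.induction_on with
      | H b =>
        intro h
        have h' : (a : G) * t * (a : G)⁻¹ = (b : G) * t * (b : G)⁻¹ := congrArg Subtype.val h
        rw [QuotientGroup.eq, Subgroup.mem_subgroupOf, Subgroup.mem_centralizer_singleton_iff]
        show (a : G)⁻¹ * b * t = t * ((a : G)⁻¹ * b)
        calc (a : G)⁻¹ * b * t = (a : G)⁻¹ * ((b : G) * t * (b : G)⁻¹) * b := by group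
          _ = (a : G)⁻¹ * ((a : G) * t * (a : G)⁻¹) * b := by rw [h']
          _ = _ := by group
  have hKF : K ≤ F.subgroupOf M := fun m hm => by
    rw [Subgroup.mem_subgroupOf] at hm ⊢
    exact D.cent t ht (fun e => by simp [e] at ht2) _ (Subgroup.mem_centralizer_singleton_iff.1 hm)
  have h1 : K.index ≤ Nat.card (Inv F) := Nat.card_le_card_of_injective f hf
  have h2 : (F.subgroupOf M).index ≤ K.index :=
    Nat.le_of_dvd (Nat.pos_of_ne_zero Subgroup.index_ne_zero_of_finite) (Subgroup.index_dvd_of_le hKF)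
  refine ⟨h2.trans h1, fun hle v hv => ?_⟩
  have hKeq : K = F.subgroupOf M := by
    refine Subgroup.eq_of_le_of_card_ge hKF ?_
    have e1 := Subgroup.card_mul_index K
    have e2 := Subgroup.card_mul_index (F.subgroupOf M)
    have e3 : K.index ≤ (F.subgroupOf M).index := h1.trans hle
    have := Nat.pos_of_ne_zero (Subgroup.index_ne_zero_of_finite (H := F.subgroupOf M))
    nlinarith
  have hm : (⟨v, D.le hv⟩ : M) ∈ K := hKeq ▸ (Subgroup.mem_subgroupOf.2 hv)
  exact Subgroup.mem_centralizer_singleton_iff.1 (Subgroup.mem_subgroupOf.1 hm)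

theorem mul_self_of_two {v : G} (h : orderOf v = 2) : v * v = 1 := by
  rw [← pow_two, ← h, pow_orderOf_eq_one]

/-- Every involution fixes exactly one point. -/
theorem TI.fix_unique (D : TI M F) {v : G} (hv : orderOf v = 2) : ∃! p : G ⧸ M, v • p = p := by
  haveI : Fact (Nat.Prime 2) := ⟨Nat.prime_two⟩
  obtain ⟨t, ht, ht2⟩ := D.exists_invol
  obtain ⟨S, hS⟩ := (IsPGroup.of_card (n := 1) (by rw [Nat.card_zpowers, ht2, pow_one]) :
    IsPGroup 2 (Subgroup.zpowers t)).exists_le_sylow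
  haveI : Nontrivial (S : Subgroup G) := ⟨⟨⟨t, hS (Subgroup.mem_zpowers t)⟩, 1, fun e => by
    have : t = 1 := congrArg Subtype.val e
    simp [this] at ht2⟩⟩
  haveI := S.2.center_nontrivial
  obtain ⟨z, hz⟩ := exists_ne (1 : Subgroup.center (S : Subgroup G))
  have hzt : ((z : (S : Subgroup G)) : G) * t = t * ((z : (S : Subgroup G)) : G) :=
    congrArg Subtype.val (Subgroup.mem_center_iff.1 z.2 ⟨t, hS (Subgroup.mem_zpowers t)⟩).symm
  have ht1 : t ≠ 1 := fun e => by simp [e] at ht2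
  have hzF := D.cent t ht ht1 _ hzt
  have hSF : (S : Subgroup G) ≤ F := fun s hs => D.cent _ hzF
    (fun e => hz (Subtype.ext (Subtype.ext e))) s
    (congrArg Subtype.val (Subgroup.mem_center_iff.1 z.2 ⟨s, hs⟩))
  obtain ⟨T, hT⟩ := (IsPGroup.of_card (n := 1) (by rw [Nat.card_zpowers, hv, pow_one]) :
    IsPGroup 2 (Subgroup.zpowers v)).exists_le_sylow
  obtain ⟨g, hg⟩ := MulAction.exists_smul_eq G S T
  have hvT : v ∈ ((g • S : Sylow 2 G) : Subgroup G) := hg ▸ hT (Subgroup.mem_zpowers v)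
  rw [Sylow.coe_subgroup_smul, Subgroup.mem_pointwise_smul_iff_inv_smul_mem] at hvT
  have hgv : g⁻¹ * v * g ∈ F := hSF (by simpa [MulAut.conj_apply] using hvT)
  refine ⟨(g : G ⧸ M), fix_iff.2 (D.le hgv), fun p hp => ?_⟩
  obtain ⟨k, rfl⟩ := QuotientGroup.mk_surjective p
  have hkv : k⁻¹ * v * k ∈ M := fix_iff.1 hp
  by_contra hne
  have hk : g⁻¹ * k ∉ M := fun h => hne (QuotientGroup.eq.2 (by simpa [mul_assoc] using M.inv_mem h))
  have h1 := D.inter_conj hk hgv (by simpa [mul_assoc] using hkv)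
  rw [mul_assoc, inv_mul_eq_one] at h1
  have : v = 1 := by simpa using (mul_left_cancel (a := (1 : G)) (by
    rw [one_mul, one_mul]; exact mul_right_cancel (h1.symm.trans (one_mul g).symm)))
  simp [this] at hv

theorem TI.card_involutions (D : TI M F) :
    Nat.card {v : G // orderOf v = 2} = Nat.card (G ⧸ M) * Nat.card (Inv F) := by
  classical
  haveI := Fintype.ofFinite (G ⧸ M)
  choose p hp hu using fun v : {v : G // orderOf v = 2} => D.fix_unique v.2
  rw [← Nat.card_congr (Equiv.sigmaFiberEquiv p), Nat.card_sigma]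
  have hfib : ∀ c : G ⧸ M, Nat.card {v : {v : G // orderOf v = 2} // p v = c} = Nat.card (Inv F) := by
    intro c
    obtain ⟨g, rfl⟩ := QuotientGroup.mk_surjective c
    refine Nat.card_congr
      { toFun := fun v => ⟨g⁻¹ * v.1.1 * g, ?_, ?_⟩
        invFun := fun x => ⟨⟨g * x.1 * g⁻¹, ?_⟩, ?_⟩
        left_inv := fun x => by ext; simp [mul_assoc]
        right_inv := fun x => by ext; simp [mul_assoc] }
    · refine D.invol_mem ?_ (fix_iff.1 ?_)
      · exact (show orderOf (g⁻¹ * v.1.1 * g) = orderOf v.1.1 by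
          simpa using MulEquiv.orderOf_eq (MulAut.conj g⁻¹) v.1.1).trans v.1.2
      · have := hp v.1
        rwa [v.2] at this
    · exact (show orderOf (g⁻¹ * v.1.1 * g) = orderOf v.1.1 by
        simpa using MulEquiv.orderOf_eq (MulAut.conj g⁻¹) v.1.1).trans v.1.2
    · exact (show orderOf (g * x.1 * g⁻¹) = orderOf x.1 by
        simpa using MulEquiv.orderOf_eq (MulAut.conj g) x.1).trans x.2.2
    · refine (hu _ _ (fix_iff.2 ?_)).symm
      simpa [mul_assoc] using D.le x.2.1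
  rw [Finset.sum_congr rfl fun c _ => hfib c, Finset.sum_const, Finset.card_univ, smul_eq_mul,
    Nat.card_eq_fintype_card (α := G ⧸ M)]

/-- The involutions exchanging the base point with `p`. -/
abbrev Swap (M : Subgroup G) (p : G ⧸ M) := {v : G // orderOf v = 2 ∧ v • base M = p}

theorem smul_smul_invol {v : G} (hv : orderOf v = 2) (p : G ⧸ M) : v • v • p = p := by
  rw [smul_smul, mul_self_of_two hv, one_smul]

theorem swap_back {p : G ⧸ M} (v : Swap M p) : (v : G) • p = base M := by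
  calc (v : G) • p = (v : G) • (v : G) • base M := congrArg _ v.2.2.symm
    _ = base M := smul_smul_invol v.2.1 _

/-- Multiplication by a fixed exchanging involution. -/
noncomputable def toPair {p : G ⧸ M} (v : Swap M p) (w : Swap M p) : pair M p :=
  ⟨(v : G) * w, smul_base_eq.1 (by rw [mul_smul, w.2.2, swap_back v]),
    show ((v : G) * w) • p = p by rw [mul_smul, swap_back w, v.2.2]⟩

theorem toPair_injective {p : G ⧸ M} (v : Swap M p) : Function.Injective (toPair v) := fun a b h =>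
  Subtype.ext (mul_left_cancel (congrArg Subtype.val h))

theorem TI.card_swap_le (D : TI M F) {p : G ⧸ M} (hp : p ≠ base M) :
    Nat.card (Swap M p) ≤ ee M F := by
  rcases isEmpty_or_nonempty (Swap M p) with h | ⟨⟨v⟩⟩
  · simp
  exact (Nat.card_le_card_of_injective _ (toPair_injective v)).trans (D.card_pair_le hp)

/-- All the counts are equalities. -/
theorem TI.counts (D : TI M F) :
    Nat.card (Inv F) = ee M F ∧
      ∀ p : G ⧸ M, p ≠ base M → Nat.card (Swap M p) = ee M F ∧ Nat.card (pair M p) = ee M F := by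
  classical
  haveI := Fintype.ofFinite (G ⧸ M)
  obtain ⟨t, ht, ht2⟩ := D.exists_invol
  have hei := (D.card_class_ge ht ht2).1
  have hJ := D.card_involutions
  rw [← Nat.card_congr (Equiv.sigmaFiberEquiv fun v : {v : G // orderOf v = 2} => (v : G) • base M),
    Nat.card_sigma,
    Finset.sum_congr rfl fun p _ => Nat.card_congr (Equiv.subtypeSubtypeEquivSubtypeInter
      (fun v : G => orderOf v = 2) fun v => v • base M = p)] at hJ
  have hbase : Nat.card (Swap M (base M)) = Nat.card (Inv F) :=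
    Nat.card_congr (Equiv.subtypeEquivRight fun v =>
      ⟨fun h => ⟨D.invol_mem h.1 (smul_base_eq.1 h.2), h.1⟩,
        fun h => ⟨h.2, smul_base_eq.2 (D.le h.1)⟩⟩)
  rw [← Finset.add_sum_erase _ _ (Finset.mem_univ (base M))] at hJ
  have hn : Nat.card (G ⧸ M) = (Finset.univ.erase (base M)).card + 1 := by
    rw [Finset.card_erase_add_one (Finset.mem_univ _), Finset.card_univ, Nat.card_eq_fintype_card]
  rw [hn, add_mul, one_mul] at hJ
  change Nat.card (Swap M (base M)) + ∑ p ∈ Finset.univ.erase (base M), Nat.card (Swap M p) = _ at hJ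
  rw [hbase] at hJ
  have hle : ∀ p ∈ Finset.univ.erase (base M), Nat.card (Swap M p) ≤ ee M F := fun p hp =>
    D.card_swap_le (Finset.ne_of_mem_erase hp)
  have hsum := Finset.sum_le_sum hle
  rw [Finset.sum_const, smul_eq_mul] at hsum
  obtain ⟨g, hg⟩ : ∃ g : G, g ∉ M := by
    by_contra h
    push Not at h
    exact D.ne_top ((Subgroup.eq_top_iff' _).2 h)
  have hpos : 0 < (Finset.univ.erase (base M)).card :=
    Finset.card_pos.2 ⟨(g : G ⧸ M), Finset.mem_erase.2 ⟨fun h => hg (coe_eq_base.1 h), Finset.mem_univ _⟩⟩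
  have hie : Nat.card (Inv F) = ee M F := by
    refine le_antisymm (Nat.le_of_mul_le_mul_left ?_ hpos) hei
    omega
  refine ⟨hie, fun p hp => ?_⟩
  have heq : Nat.card (Swap M p) = ee M F := by
    refine le_antisymm (D.card_swap_le hp) (not_lt.1 fun hlt => ?_)
    have := Finset.sum_lt_sum hle ⟨p, Finset.mem_erase.2 ⟨hp, Finset.mem_univ _⟩, hlt⟩
    rw [Finset.sum_const, smul_eq_mul] at this
    rw [hie] at hJ
    omega
  obtain ⟨v⟩ : Nonempty (Swap M p) := (Nat.card_pos_iff.1 (by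
    rw [heq, ← hie]
    haveI : Nonempty (Inv F) := ⟨⟨t, ht, ht2⟩⟩
    exact Nat.card_pos)).1
  exact ⟨heq, le_antisymm (D.card_pair_le hp)
    (heq ▸ Nat.card_le_card_of_injective _ (toPair_injective v))⟩

theorem TI.two_le_ee (D : TI M F) : 2 ≤ ee M F := by
  obtain ⟨t, ht, ht2⟩ := D.exists_invol
  obtain ⟨s, hs, hs2, hst⟩ := D.two t ht ht2
  rw [← D.counts.1]
  exact (Finite.one_lt_card_iff_nontrivial.2
    ⟨⟨⟨s, hs, hs2⟩, ⟨t, ht, ht2⟩, fun e => hst (congrArg Subtype.val e)⟩⟩)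

theorem TI.central (D : TI M F) {t : G} (ht : t ∈ F) (ht2 : orderOf t = 2) :
    ∀ v ∈ F, v * t = t * v :=
  (D.card_class_ge ht ht2).2 D.counts.1.le

theorem TI.exists_swap (D : TI M F) {p : G ⧸ M} (hp : p ≠ base M) : Nonempty (Swap M p) :=
  (Nat.card_pos_iff.1 (by
    have h1 := (D.counts.2 p hp).1
    have h2 := D.two_le_ee
    omega)).1

theorem TI.swap_inverts (D : TI M F) {p : G ⧸ M} (hp : p ≠ base M) (v : Swap M p) :
    ∀ d ∈ pair M p, (v : G) * d * (v : G)⁻¹ = d⁻¹ := by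
  intro d hd
  obtain ⟨w, hw⟩ := ((toPair_injective v).bijective_of_nat_card_le
    (by rw [(D.counts.2 p hp).1, (D.counts.2 p hp).2])).2 ⟨d, hd⟩
  have hd' : (v : G) * w = d := congrArg Subtype.val hw
  rw [← hd', inv_eq_of_mul_eq_one_right (mul_self_of_two v.2.1), mul_inv_rev,
    inv_eq_of_mul_eq_one_right (mul_self_of_two v.2.1), inv_eq_of_mul_eq_one_right
    (mul_self_of_two w.2.1), ← mul_assoc, mul_self_of_two v.2.1, one_mul]

theorem TI.pair_comm (D : TI M F) {p : G ⧸ M} (hp : p ≠ base M) {c d : G} (hc : c ∈ pair M p)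
    (hd : d ∈ pair M p) : c * d = d * c := by
  obtain ⟨v⟩ := D.exists_swap hp
  have h := D.swap_inverts hp v (c * d) ((pair M p).mul_mem hc hd)
  rw [show (v : G) * (c * d) * (v : G)⁻¹ = ((v : G) * c * (v : G)⁻¹) * ((v : G) * d * (v : G)⁻¹) by group,
    D.swap_inverts hp v c hc, D.swap_inverts hp v d hd, mul_inv_rev] at h
  have := congrArg (·⁻¹) h
  simpa using this.symm

theorem TI.odd_ee (D : TI M F) : Odd (ee M F) := by
  rw [← Nat.not_even_iff_odd, even_iff_two_dvd]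
  intro h2
  haveI : Fact (Nat.Prime 2) := ⟨Nat.prime_two⟩
  obtain ⟨g, hg⟩ : ∃ g : G, g ∉ M := by
    by_contra h
    push Not at h
    exact D.ne_top ((Subgroup.eq_top_iff' _).2 h)
  have hp : (g : G ⧸ M) ≠ base M := fun h => hg (coe_eq_base.1 h)
  rw [← (D.counts.2 _ hp).2] at h2
  obtain ⟨d, hd⟩ := exists_prime_orderOf_dvd_card' (G := pair M (g : G ⧸ M)) 2 h2
  rw [← Subgroup.orderOf_coe] at hd
  have h1 := D.free (D.invol_mem hd d.2.1) hp d.2.2
  simp [h1] at hd

theorem TI.sup_eq (D : TI M F) {p : G ⧸ M} (hp : p ≠ base M) {g : G} (hg : g ∈ M) :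
    ∃ f ∈ F, ∃ d ∈ pair M p, g = f * d := by
  have hcard : Nat.card (pair M p × F) = Nat.card M := by
    rw [Nat.card_prod, (D.counts.2 p hp).2, mul_comm, D.card_M]
  have hinj : Function.Injective (fun z : pair M p × F =>
      (⟨(z.2 : G) * z.1, M.mul_mem (D.le z.2.2) z.1.2.1⟩ : M)) := by
    rintro ⟨⟨d, hd⟩, ⟨f, hf⟩⟩ ⟨⟨d', hd'⟩, ⟨f', hf'⟩⟩ h
    have h' : f * d = f' * d' := congrArg Subtype.val h
    have h1 : f'⁻¹ * f = d' * d⁻¹ := by
      rw [eq_mul_inv_iff_mul_eq, mul_assoc, h', inv_mul_cancel_left]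
    have h2 : f'⁻¹ * f = 1 := by
      have : f'⁻¹ * f ∈ pair M p ⊓ F :=
        ⟨h1 ▸ (pair M p).mul_mem hd' ((pair M p).inv_mem hd), F.mul_mem (F.inv_mem hf') hf⟩
      rwa [D.pair_inter hp, Subgroup.mem_bot] at this
    have h3 := inv_mul_eq_one.1 h2
    subst h3
    obtain rfl := mul_left_cancel h'
    rfl
  obtain ⟨⟨d, f⟩, h⟩ := (hinj.bijective_of_nat_card_le hcard.ge).2 ⟨g, hg⟩
  exact ⟨f, f.2, d, d.2, (congrArg Subtype.val h).symm⟩

theorem TI.cent_trivial (D : TI M F) {p : G ⧸ M} (hp : p ≠ base M) {d f : G} (hd : d ∈ pair M p)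
    (hd1 : d ≠ 1) (hf : f ∈ F) (hc : f * d = d * f) : f = 1 := by
  by_contra hf1
  exact hd1 (D.free (D.cent f hf hf1 d hc.symm) hp hd.2)

/-- No element of `M` inverts a pair stabiliser. -/
theorem TI.not_inverts (D : TI M F) {p : G ⧸ M} (hp : p ≠ base M) {g : G} (hg : g ∈ M)
    (h : ∀ d ∈ pair M p, g * d * g⁻¹ = d⁻¹) : False := by
  obtain ⟨f, hf, c, hc, rfl⟩ := D.sup_eq hp hg
  obtain ⟨d, hd1⟩ : ∃ d : pair M p, d ≠ 1 := by
    haveI : Nontrivial (pair M p) := Finite.one_lt_card_iff_nontrivial.1 (by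
      rw [(D.counts.2 p hp).2]; exact D.two_le_ee)
    exact exists_ne 1
  have hd1' : (d : G) ≠ 1 := fun e => hd1 (Subtype.ext e)
  have h' : f * d * f⁻¹ = (d : G)⁻¹ := by
    rw [← h d d.2, show f * c * d * (f * c)⁻¹ = f * (c * d * c⁻¹) * f⁻¹ by group,
      D.pair_comm hp hc d.2, mul_inv_cancel_right]
  have hmem : f * d * f⁻¹ * (d : G)⁻¹ ∈ pair M p ⊓ F := by
    refine ⟨?_, ?_⟩
    · rw [h']; exact (pair M p).mul_mem ((pair M p).inv_mem d.2) ((pair M p).inv_mem d.2)
    · rw [mul_assoc, mul_assoc, ← mul_assoc (d : G)]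
      exact F.mul_mem hf (D.norm d d.2.1 _ (F.inv_mem hf))
  rw [D.pair_inter hp, Subgroup.mem_bot, mul_inv_eq_one] at hmem
  rw [hmem] at h'
  have h2 : (d : G) * d = 1 := mul_eq_one_iff_eq_inv.2 h'
  have ho : orderOf d ∣ 2 := orderOf_dvd_of_pow_eq_one (by rw [pow_two]; exact Subtype.ext h2)
  have hd' := orderOf_dvd_natCard d
  rw [(D.counts.2 p hp).2] at hd'
  have h3 := Nat.dvd_gcd ho hd'
  rw [(Nat.coprime_two_left.2 D.odd_ee).gcd_eq_one, Nat.dvd_one, orderOf_eq_one_iff] at h3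
  exact hd1 h3

/-- The fixed points of a pair stabiliser. -/
theorem TI.fix_pair (D : TI M F) {p q : G ⧸ M} (hp : p ≠ base M) (hq : q ≠ base M)
    (hfix : ∀ d ∈ pair M p, d • q = q) : q = p := by
  classical
  by_contra hqp
  have hle : pair M p ≤ pair M q := fun d hd => ⟨hd.1, hfix d hd⟩
  have heq : pair M p = pair M q := Subgroup.eq_of_le_of_card_ge hle
    (by rw [(D.counts.2 p hp).2, (D.counts.2 q hq).2])
  obtain ⟨u⟩ := D.exists_swap hp
  obtain ⟨v⟩ := D.exists_swap hq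
  -- `x` maps `p` to `q` and centralises the pair stabiliser
  obtain ⟨x, hx⟩ : ∃ x, x = (v : G) * u := ⟨_, rfl⟩
  have hxp : x • p = q := by rw [hx, mul_smul, swap_back u, v.2.2]
  have hxc : ∀ d ∈ pair M p, x * d * x⁻¹ = d := fun d hd => by
    rw [hx, show (v : G) * u * d * ((v : G) * u)⁻¹ = (v : G) * ((u : G) * d * (u : G)⁻¹) * (v : G)⁻¹ by
      group, D.swap_inverts hp u d hd, D.swap_inverts hq v _ (heq ▸ (pair M p).inv_mem hd), inv_inv]
  -- an involution exchanging `q` and `p` inverts it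
  obtain ⟨g, rfl⟩ := QuotientGroup.mk_surjective p
  obtain ⟨c, hc⟩ : ∃ c : G ⧸ M, c = g⁻¹ • q := ⟨_, rfl⟩
  have hgc : g • c = q := by rw [hc, smul_inv_smul]
  have hgb : g • base M = (g : G ⧸ M) := by
    rw [MulAction.Quotient.smul_coe, smul_eq_mul, mul_one]
  have hcb : c ≠ base M := fun e => hqp (by rw [← hgc, e, hgb])
  obtain ⟨w⟩ := D.exists_swap hcb
  have hpm : ∀ d ∈ pair M (g : G ⧸ M), g⁻¹ * d * g ∈ pair M c := fun d hd => by
    refine ⟨?_, ?_⟩
    · exact fix_iff.1 (show d • (g : G ⧸ M) = (g : G ⧸ M) from hd.2)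
    · show (g⁻¹ * d * g) • c = c
      rw [mul_smul, mul_smul, hgc, hfix d hd, hc]
  obtain ⟨h, hh⟩ : ∃ h, h = (w : G) * g⁻¹ * x * g := ⟨_, rfl⟩
  have hhM : h ∈ M := smul_base_eq.1 (by
    rw [hh, mul_smul, mul_smul, mul_smul, hgb, hxp, ← hc, swap_back w])
  refine D.not_inverts hcb hhM fun e he => ?_
  have hsurj : ∃ d ∈ pair M (g : G ⧸ M), g⁻¹ * d * g = e := by
    let f : pair M (g : G ⧸ M) → pair M c := fun d => ⟨g⁻¹ * d * g, hpm d d.2⟩
    have hf : Function.Injective f := fun a b e => Subtype.ext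
      (mul_left_cancel (mul_right_cancel (congrArg Subtype.val e)))
    obtain ⟨d, hd⟩ := (hf.bijective_of_nat_card_le
      (by rw [(D.counts.2 _ hp).2, (D.counts.2 _ hcb).2])).2 ⟨e, he⟩
    exact ⟨d, d.2, congrArg Subtype.val hd⟩
  obtain ⟨d, hd, rfl⟩ := hsurj
  rw [← D.swap_inverts hcb w _ (hpm d hd), hh,
    show (w : G) * g⁻¹ * x * g * (g⁻¹ * d * g) * ((w : G) * g⁻¹ * x * g)⁻¹ =
      (w : G) * (g⁻¹ * (x * d * x⁻¹) * g) * (w : G)⁻¹ by group, hxc d hd]

/-- `F` is regular on the points other than the base point. -/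
theorem TI.regular (D : TI M F) {y z : G ⧸ M} (hy : y ≠ base M) (hz : z ≠ base M) :
    ∃! u : F, (u : G) • y = z := by
  haveI := D.solv
  have hFn : (F.subgroupOf M).Normal := ⟨fun n hn m => D.norm m m.2 n hn⟩
  have hcompl : ∀ p : G ⧸ M, p ≠ base M →
      Subgroup.IsComplement' (F.subgroupOf M) ((pair M p).subgroupOf M) := fun p hp => by
    refine Subgroup.isComplement'_of_disjoint_and_mul_eq_univ ?_ ?_
    · rw [disjoint_iff, Subgroup.eq_bot_iff_forall]
      rintro m ⟨h1, h2⟩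
      have : (m : G) ∈ pair M p ⊓ F := ⟨h2, h1⟩
      rw [D.pair_inter hp, Subgroup.mem_bot] at this
      exact Subtype.ext this
    · refine Set.eq_univ_of_forall fun m => ?_
      obtain ⟨f, hf, d, hd, h⟩ := D.sup_eq hp m.2
      exact ⟨⟨f, D.le hf⟩, hf, ⟨d, hd.1⟩, hd, Subtype.ext h.symm⟩
  have hco : (Nat.card (F.subgroupOf M)).Coprime (F.subgroupOf M).index := by
    rw [Nat.card_congr (Subgroup.subgroupOfEquivOfLe D.le).toEquiv]
    have h := CfsgLib.Solvable.coprime_card_of_fpf (A := pair M y) (K := F) ?_ ?_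
    · rw [(D.counts.2 y hy).2] at h
      exact h.symm
    · intro d hd
      rw [Subgroup.mem_normalizer_iff]
      refine fun x => ⟨fun hx => D.norm d hd.1 x hx, fun hx => ?_⟩
      have := D.norm d⁻¹ (M.inv_mem hd.1) _ hx
      simpa [mul_assoc] using this
    · intro d hd hd1
      rw [Subgroup.eq_bot_iff_forall]
      rintro f ⟨hf, hfc⟩
      exact D.cent_trivial hy hd hd1 hf (Subgroup.mem_centralizer_singleton_iff.1 hfc)
  obtain ⟨m, hm⟩ := Cfsg.Agent.S0001.result (F.subgroupOf M) hco (Or.inl inferInstance) _ _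
    (hcompl y hy) (hcompl z hz)
  obtain ⟨f, hf, d, hd, hmd⟩ := D.sup_eq hz (M.inv_mem m.2)
  -- `f` maps `z` to `y`
  have hfix : ∀ e ∈ pair M y, e • (m : G)⁻¹ • z = (m : G)⁻¹ • z := by
    intro e he
    have hmem : m * ⟨e, he.1⟩ * m⁻¹ ∈ (pair M z).subgroupOf M := by
      rw [← hm]
      exact Subgroup.smul_mem_pointwise_smul (⟨e, he.1⟩ : M) (MulAut.conj m) _ he
    have hmem' : (m : G) * e * (m : G)⁻¹ ∈ pair M z := Subgroup.mem_subgroupOf.1 hmem
    have h2 : ((m : G) * e * (m : G)⁻¹) • z = z := hmem'.2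
    rw [eq_inv_smul_iff, smul_smul, smul_smul]
    exact h2
  have hne : (m : G)⁻¹ • z ≠ base M := fun h => hz (by
    rw [inv_smul_eq_iff] at h
    rw [h, smul_base_eq.2 m.2])
  have hkey : f • z = y := by
    rw [← D.fix_pair hy hne hfix, hmd, mul_smul, show d • z = z from hd.2]
  refine ⟨⟨f⁻¹, F.inv_mem hf⟩, inv_smul_eq_iff.2 hkey.symm, fun u hu => Subtype.ext ?_⟩
  have h1 := D.free (F.mul_mem hf u.2) hy (by rw [mul_smul, show (u : G) • y = z from hu, hkey])
  exact eq_inv_of_mul_eq_one_right h1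

theorem TI.card_points (D : TI M F) : Nat.card (G ⧸ M) = Nat.card F + 1 := by
  classical
  haveI := Fintype.ofFinite (G ⧸ M)
  obtain ⟨g, hg⟩ : ∃ g : G, g ∉ M := by
    by_contra h
    push Not at h
    exact D.ne_top ((Subgroup.eq_top_iff' _).2 h)
  have hy : (g : G ⧸ M) ≠ base M := fun h => hg (coe_eq_base.1 h)
  let f : F → {z : G ⧸ M // z ≠ base M} := fun u => ⟨(u : G) • (g : G ⧸ M), fun h => hy (by
    have h' := congrArg ((u : G)⁻¹ • ·) h
    simpa [inv_smul_smul, smul_base_eq.2 (M.inv_mem (D.le u.2))] using h')⟩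
  have hf : Function.Bijective f :=
    ⟨fun a b h => (D.regular hy (f b).2).unique (congrArg Subtype.val h) rfl,
      fun z => (D.regular hy z.2).exists.imp fun u hu => Subtype.ext hu⟩
  rw [Nat.card_congr (Equiv.ofBijective f hf), Nat.card_eq_fintype_card, Nat.card_eq_fintype_card,
    Fintype.card_subtype_compl, Fintype.card_subtype_eq]
  have := Fintype.card_pos_iff.2 ⟨base M⟩
  omega

theorem TI.only_two (D : TI M F) {p q : G ⧸ M} (hp : p ≠ base M) (hq : q ≠ base M) {d : G}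
    (hd : d ∈ pair M p) (hd1 : d ≠ 1) (hdq : d • q = q) : q = p := by
  obtain ⟨⟨f, hf⟩, hfp, -⟩ := D.regular hp hq
  have hfp' : f • p = q := hfp
  have hfM := D.le hf
  have h1 : f⁻¹ * d * f ∈ pair M p := by
    refine ⟨M.mul_mem (M.mul_mem (M.inv_mem hfM) hd.1) hfM, ?_⟩
    show (f⁻¹ * d * f) • p = p
    rw [mul_smul, mul_smul, hfp', hdq, inv_smul_eq_iff, hfp']
  have hmem : f⁻¹ * d * f * d⁻¹ ∈ pair M p ⊓ F := by
    refine ⟨(pair M p).mul_mem h1 ((pair M p).inv_mem hd), ?_⟩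
    rw [mul_assoc, mul_assoc, ← mul_assoc d]
    exact F.mul_mem (F.inv_mem hf) (D.norm d hd.1 f hf)
  rw [D.pair_inter hp, Subgroup.mem_bot, mul_inv_eq_one] at hmem
  have hf1 : f = 1 := D.cent_trivial hp hd hd1 hf (by
    conv_lhs => rw [← hmem]
    group)
  rw [← hfp', hf1, one_smul]

theorem TI.zassenhaus (D : TI M F) : Cfsg.IsZassenhausGroup G (G ⧸ M) := by
  classical
  haveI := Fintype.ofFinite (G ⧸ M)
  obtain ⟨g₀, hg₀⟩ : ∃ g : G, g ∉ M := by
    by_contra h
    push Not at h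
    exact D.ne_top ((Subgroup.eq_top_iff' _).2 h)
  have hy : (g₀ : G ⧸ M) ≠ base M := fun h => hg₀ (coe_eq_base.1 h)
  have hcard := D.card_points
  have h3pts : ∀ p : G ⧸ M, p ≠ base M → ∃ q : G ⧸ M, q ≠ base M ∧ q ≠ p := by
    intro p hp
    obtain ⟨t, ht, ht2⟩ := D.exists_invol
    refine ⟨t • p, fun h => hp ?_, fun h => ?_⟩
    · have := congrArg (t⁻¹ • ·) h
      simpa [inv_smul_smul, smul_base_eq.2 (M.inv_mem (D.le ht))] using this
    · simp [D.free ht hp h] at ht2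
  have hfix3 : ∀ g : G, ∀ a b c : G ⧸ M, a ≠ b → b ≠ c → a ≠ c → g • a = a → g • b = b →
      g • c = c → g = 1 := by
    intro g a b c hab hbc hac ha hb hc
    obtain ⟨k, rfl⟩ := QuotientGroup.mk_surjective a
    have hk : (k : G ⧸ M) = k • base M := by
      rw [MulAction.Quotient.smul_coe, smul_eq_mul, mul_one]
    obtain ⟨b', hb'⟩ : ∃ b', b' = k⁻¹ • b := ⟨_, rfl⟩
    obtain ⟨c', hc'⟩ : ∃ c', c' = k⁻¹ • c := ⟨_, rfl⟩
    have hb0 : b' ≠ base M := fun e => hab (by rw [hk, ← e, hb', smul_inv_smul])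
    have hc0 : c' ≠ base M := fun e => hac (by rw [hk, ← e, hc', smul_inv_smul])
    by_contra hg
    have hmem : k⁻¹ * g * k ∈ pair M b' :=
      ⟨fix_iff.1 ha, show (k⁻¹ * g * k) • b' = b' by rw [hb', mul_smul, mul_smul, smul_inv_smul, hb]⟩
    have := D.only_two hb0 hc0 hmem
      (fun e => hg (by rw [show g = k * (k⁻¹ * g * k) * k⁻¹ by group, e]; group))
      (by rw [hc', mul_smul, mul_smul, smul_inv_smul, hc])
    rw [hb', hc'] at this
    exact hbc (smul_left_cancel _ this).symm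
  haveI hfaith : FaithfulSMul G (G ⧸ M) := ⟨fun {g₁ g₂} h => by
    obtain ⟨q, hq0, hqy⟩ := h3pts _ hy
    have hfix : ∀ z : G ⧸ M, (g₁⁻¹ * g₂) • z = z := fun z => by
      rw [mul_smul, ← h z, inv_smul_smul]
    exact inv_mul_eq_one.1 (hfix3 _ _ _ _ (Ne.symm hy) (Ne.symm hqy) (Ne.symm hq0) (hfix _) (hfix _)
      (hfix _))⟩
  have htrans : ∀ p : G ⧸ M, ∃ g : G, g • base M = p := fun p => by
    obtain ⟨g, rfl⟩ := QuotientGroup.mk_surjective p
    exact ⟨g, by rw [MulAction.Quotient.smul_coe, smul_eq_mul, mul_one]⟩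
  refine ⟨hfaith, ?_, hfix3, ?_, fun N hN hNt => ?_⟩
  · rw [MulAction.is_two_pretransitive_iff]
    intro a b c d hab hcd
    obtain ⟨g, rfl⟩ := htrans a
    obtain ⟨k, rfl⟩ := htrans c
    have hb : g⁻¹ • b ≠ base M := fun e => hab (by rw [← e, smul_inv_smul])
    have hd : k⁻¹ • d ≠ base M := fun e => hcd (by rw [← e, smul_inv_smul])
    obtain ⟨u, hu, -⟩ := D.regular hb hd
    refine ⟨k * u * g⁻¹, ?_, ?_⟩
    · rw [mul_smul, mul_smul, inv_smul_smul, smul_base_eq.2 (D.le u.2)]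
    · rw [mul_smul, mul_smul, hu, smul_inv_smul]
  · haveI : Nontrivial (pair M (g₀ : G ⧸ M)) := Finite.one_lt_card_iff_nontrivial.1 (by
      rw [(D.counts.2 _ hy).2]; exact D.two_le_ee)
    obtain ⟨d, hd⟩ := exists_ne (1 : pair M (g₀ : G ⧸ M))
    exact ⟨d, fun e => hd (Subtype.ext e), base M, (g₀ : G ⧸ M), hy.symm, smul_base_eq.2 d.2.1, d.2.2⟩
  · by_contra hno
    push Not at hno
    have hidx : (⊥ : Subgroup N).index = Nat.card (G ⧸ M) := by
      rw [← hno (base M)]
      exact @MulAction.index_stabilizer_of_transitive N (G ⧸ M) _ _ (base M) hNt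
    rw [Subgroup.index_bot, hcard] at hidx
    haveI : Group.IsSolvable N := Cfsg.Agent.S0205.result (by
      rw [hidx]
      exact (Nat.even_iff.2 (Nat.mod_eq_zero_of_dvd D.even)).add_one)
    haveI := D.solv
    have hsup : M ⊔ N = ⊤ := by
      refine (Subgroup.eq_top_iff' _).2 fun g => ?_
      obtain ⟨⟨n, hn⟩, hng⟩ := @MulAction.exists_smul_eq N (G ⧸ M) _ hNt (base M) (g • base M)
      have hm : n⁻¹ * g ∈ M := smul_base_eq.1 (by
        rw [mul_smul, inv_smul_eq_iff]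
        exact hng.symm)
      rw [show g = n * (n⁻¹ * g) by group]
      exact Subgroup.mul_mem _ (Subgroup.mem_sup_right hn) (Subgroup.mem_sup_left hm)
    apply D.insolv
    haveI := hN
    refine Group.isSolvable_of_ker_le_range N.subtype (QuotientGroup.mk' N) (by simp) (hG'' := ?_)
    refine Group.isSolvable_of_surjective (f := (QuotientGroup.mk' N).comp M.subtype) fun z => ?_
    obtain ⟨g, rfl⟩ := QuotientGroup.mk'_surjective N z
    obtain ⟨m, hm, n, hn, rfl⟩ := Subgroup.mem_sup_of_normal_right.1 (hsup ▸ Subgroup.mem_top g)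
    exact ⟨⟨m, hm⟩, (QuotientGroup.eq.2 (by simpa using hn))⟩

end CfsgLib.FrobSystem
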