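/-
Groups with a Frobenius system of maximal solvable subgroups.
-/
import Cfsg.Agent.Lib.FrobSystem.TI
import Cfsg.Agent.Lib.ThreeTransp.Solv
import Cfsg.Agent.Lib.Invol.ZStarFinal
import Cfsg.Agent.Lib.Invol.ZStarCor
import Cfsg.Agent.Lib.Invol.Quaternion
import Cfsg.Agent.Lib.PGroup.CAI.Recognise
import Cfsg.Agent.Lib.PGroup.CAI.PSLEven
import Cfsg.Agent.Lib.SuzukiUniq.Main
import Cfsg.Agent.S0338
import Cfsg.Agent.S0738
import Cfsg.Agent.S0885

set_option autoImplicit false
set_option linter.unusedSectionVars false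

namespace CfsgLib.FrobSystem

open MulAction
open scoped Pointwise

variable {G : Type*} [Group G] [Finite G]

/-- A maximal solvable subgroup. -/
def MaxSolv (M : Subgroup G) : Prop :=
  Group.IsSolvable M ∧ ∀ M' : Subgroup G, M < M' → ¬ Group.IsSolvable M'

/-- The hypothesis of the theorem. -/
def System (F : Subgroup G → Subgroup G) : Prop :=
  ∀ M : Subgroup G, MaxSolv M →
    F M ≤ M ∧ M ≤ Subgroup.normalizer (F M : Set G) ∧
      (∀ a ∈ M, a ∉ F M → ∀ x ∈ F M, x * a = a * x → x = 1) ∧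
      (∀ g : G, g ∉ M → F M ⊓ (MulAut.conj g • F M) = ⊥) ∧
      (F M ≠ ⊥ ∨ IsMulCommutative M)

theorem exists_maxSolv {K : Subgroup G} (hK : Group.IsSolvable K) : ∃ M, MaxSolv M ∧ K ≤ M := by
  obtain ⟨M, hKM, hM⟩ := Finite.exists_le_maximal (p := fun H : Subgroup G => Group.IsSolvable H) hK
  exact ⟨M, ⟨hM.1, fun M' h h' => h.not_ge (hM.2 h' h.le)⟩, hKM⟩

theorem normal_le_maxSolv {N M : Subgroup G} [hN : N.Normal] (hNs : Group.IsSolvable N)
    (hM : MaxSolv M) : N ≤ M := by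
  have hs := CfsgLib.ThreeTransp.isSolvable_sup_of_le_normalizer hM.1 hNs
    (by rw [Subgroup.normalizer_eq_top N]; exact le_top)
  have h : M = M ⊔ N :=
    eq_of_le_of_not_lt le_sup_left fun h => hM.2 _ h hs
  rw [h]
  exact le_sup_right

/-- A group with a self-centralised normaliser of a Sylow 2-subgroup is solvable. -/
theorem solvable_of_central (S : Sylow 2 G)
    (hP : ∀ g ∈ Subgroup.normalizer ((S : Subgroup G) : Set G), ∀ s ∈ (S : Subgroup G), s * g = g * s) :
    Group.IsSolvable G := by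
  classical
  haveI : Fact (Nat.Prime 2) := ⟨Nat.prime_two⟩
  have hP' : Subgroup.normalizer ((S : Subgroup G) : Set G) ≤
      Subgroup.centralizer ((S : Subgroup G) : Set G) :=
    fun g hg => Subgroup.mem_centralizer_iff.2 fun s hs => hP g hg s hs
  set f := MonoidHom.transferSylow S hP' with hf
  haveI : Group.IsSolvable f.ker := Cfsg.Agent.S0205.result (Nat.not_even_iff_odd.1 fun h =>
    MonoidHom.not_dvd_card_ker_transferSylow S hP' (even_iff_two_dvd.1 h))
  haveI : Group.IsSolvable (S : Subgroup G) := by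
    haveI := S.2.isNilpotent
    infer_instance
  exact Group.isSolvable_of_ker_le_range f.ker.subtype f (by rw [Subgroup.range_subtype])

theorem even_of_insolvable (hns : ¬ Group.IsSolvable G) : 2 ∣ Nat.card G := by
  by_contra h
  exact hns (Cfsg.Agent.S0205.result (Nat.not_even_iff_odd.1 fun h' => h (even_iff_two_dvd.1 h')))

variable {F : Subgroup G → Subgroup G}

/-- Elements of a solvable subgroup in a system without kernels commute. -/
theorem comm_of_abelian {K : Subgroup G} (hK : Group.IsSolvable K) (h : System F)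
    (hF : ∀ M, MaxSolv M → K ≤ M → F M = ⊥) {a b : G} (ha : a ∈ K) (hb : b ∈ K) : a * b = b * a := by
  obtain ⟨M, hM, hKM⟩ := exists_maxSolv hK
  haveI := (h M hM).2.2.2.2.resolve_left fun e => e (hF M hM hKM)
  exact congrArg Subtype.val (mul_comm' (⟨a, hKM ha⟩ : M) ⟨b, hKM hb⟩)

theorem solvable_of_no_kernel (h : System F) (S : Sylow 2 G)
    (hF : ∀ M, MaxSolv M → (S : Subgroup G) ≤ M → F M = ⊥) : Group.IsSolvable G := by
  haveI : Fact (Nat.Prime 2) := ⟨Nat.prime_two⟩
  refine solvable_of_central S fun g hg s hs => ?_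
  have hK : Group.IsSolvable (Subgroup.zpowers g ⊔ (S : Subgroup G) : Subgroup G) := by
    refine CfsgLib.ThreeTransp.isSolvable_sup_of_le_normalizer inferInstance ?_
      (Subgroup.zpowers_le.2 hg)
    haveI := S.2.isNilpotent
    infer_instance
  exact comm_of_abelian hK h (fun M hM hle => hF M hM (le_sup_right.trans hle))
    (Subgroup.mem_sup_right hs) (Subgroup.mem_sup_left (Subgroup.mem_zpowers g))

variable (h : System F) (hns : ¬ Group.IsSolvable G)
include h hns

theorem exists_kernel : ∃ M, MaxSolv M ∧ F M ≠ ⊥ := by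
  by_contra hc
  push Not at hc
  obtain ⟨S⟩ : Nonempty (Sylow 2 G) := inferInstance
  exact hns (solvable_of_no_kernel h S fun M hM _ => hc M hM)

theorem cent_le {M : Subgroup G} (hM : MaxSolv M) {x : G} (hx : x ∈ F M) (hx1 : x ≠ 1) {g : G}
    (hg : g * x = x * g) : g ∈ F M := by
  obtain ⟨-, -, hfpf, hti, -⟩ := h M hM
  have hgM : g ∈ M := by
    by_contra hgM
    have hmem : x ∈ F M ⊓ (MulAut.conj g • F M) := by
      refine ⟨hx, ?_⟩
      have := Subgroup.smul_mem_pointwise_smul x (MulAut.conj g) _ hx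
      rwa [show MulAut.conj g • x = x by simp [MulAut.smul_def, hg]] at this
    rw [hti g hgM, Subgroup.mem_bot] at hmem
    exact hx1 hmem
  by_contra hgF
  exact hx1 (hfpf g hgM hgF x hx hg.symm)

theorem ti_elem {M : Subgroup G} (hM : MaxSolv M) {g : G} (hg : g ∉ M) {x : G} (hx : x ∈ F M)
    (hgx : g * x * g⁻¹ ∈ F M) : x = 1 := by
  have hmem : g * x * g⁻¹ ∈ F M ⊓ (MulAut.conj g • F M) := by
    refine ⟨hgx, ?_⟩
    have := Subgroup.smul_mem_pointwise_smul x (MulAut.conj g) _ hx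
    exact this
  rw [(h M hM).2.2.2.1 g hg, Subgroup.mem_bot, mul_inv_eq_one] at hmem
  simpa using hmem

/-- There is no non-trivial solvable normal subgroup. -/
theorem normal_eq_bot {N : Subgroup G} (hN : N.Normal) (hNs : Group.IsSolvable N) : N = ⊥ := by
  by_contra hne
  obtain ⟨A, -, hA⟩ := exists_minimal_le_of_wellFoundedLT
    (fun K : Subgroup G => K.Normal ∧ Group.IsSolvable K ∧ K ≠ ⊥) N ⟨hN, hNs, hne⟩
  obtain ⟨hAn, hAs, hA0⟩ := hA.1
  haveI := hAn
  have hle : ⁅A, A⁆ ≤ A := Subgroup.commutator_le_left A A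
  have habel : ⁅A, A⁆ = ⊥ := by
    by_contra hc
    haveI := hAs
    haveI : Nontrivial A := (Subgroup.nontrivial_iff_ne_bot A).2 hA0
    have hlt := (Group.isSolvable_iff_commutator_lt.1 hAs) ⊤ top_ne_bot
    have hsol : Group.IsSolvable (⁅A, A⁆ : Subgroup G) :=
      CfsgLib.ThreeTransp.isSolvable_mono hle hAs
    have heq : A ≤ ⁅A, A⁆ := hA.2 ⟨inferInstance, hsol, hc⟩ hle
    apply hlt.ne
    rw [eq_top_iff]
    intro a _
    have ha : (a : G) ∈ (commutator A).map A.subtype := by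
      rw [Subgroup.map_subtype_commutator]
      exact heq a.2
    obtain ⟨b, hb, hba⟩ := ha
    obtain rfl : b = a := Subtype.ext hba
    rwa [← commutator_def]
  obtain ⟨M, hM, hF0⟩ := exists_kernel h hns
  obtain ⟨hFM, hnorm, -, -, -⟩ := h M hM
  have hAM := normal_le_maxSolv hAs hM
  obtain ⟨⟨x, hx⟩, hx1'⟩ := Subgroup.ne_bot_iff_exists_ne_one.1 hF0
  have hx1 : x ≠ 1 := fun e => hx1' (Subtype.ext e)
  obtain ⟨a, ha, haF, ha1⟩ : ∃ a ∈ A, a ∈ F M ∧ a ≠ 1 := by
    by_contra hc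
    push Not at hc
    have hcomm : ∀ a ∈ A, a * x = x * a := fun a ha => by
      have h1 : a * x * a⁻¹ * x⁻¹ ∈ F M :=
        (F M).mul_mem ((Subgroup.mem_normalizer_iff.1 (hnorm (hAM ha)) x).1 hx) ((F M).inv_mem hx)
      have h2 : a * x * a⁻¹ * x⁻¹ ∈ A := by
        rw [mul_assoc, mul_assoc, ← mul_assoc x]
        exact A.mul_mem ha (hAn.conj_mem _ (A.inv_mem ha) x)
      exact mul_inv_eq_iff_eq_mul.1 (mul_inv_eq_one.1 (hc _ h2 h1))
    refine hA0 ((Subgroup.eq_bot_iff_forall A).2 fun a ha => hc a ha ?_)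
    exact cent_le h hns hM hx hx1 (hcomm a ha)
  refine hns ?_
  haveI := hM.1
  have htop : ∀ g : G, g ∈ M := by
    intro g
    by_contra hg
    refine ha1 (ti_elem h hns hM hg haF (cent_le h hns hM haF ha1 ?_))
    have hc := Subgroup.commutator_mem_commutator (hAn.conj_mem a ha g) ha
    rw [habel, Subgroup.mem_bot, commutatorElement_def, mul_inv_eq_one, mul_inv_eq_iff_eq_mul] at hc
    exact hc
  exact Group.isSolvable_of_surjective (f := M.subtype) fun g => ⟨⟨g, htop g⟩, rfl⟩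

/-- The Sylow 2-subgroups have more than one involution. -/
theorem false_of_unique (S : Sylow 2 G) {z : G} (hz : orderOf z = 2)
    (hu : ∀ s ∈ (S : Subgroup G), orderOf s = 2 → s = z) : False := by
  have hiso : Cfsg.IsIsolatedInvolution z := ⟨hz, fun g hc => (CfsgLib.Invol.eq_of_commute_of_unique S hu
    hz ((CfsgLib.Invol.orderOf_conj_eq g z).trans hz) hc).symm⟩
  have hO : Cfsg.oddCore G = ⊥ := CfsgLib.Invol.oddCore_eq_bot_of fun N hN hodd =>
    normal_eq_bot h hns hN (Cfsg.Agent.S0205.result hodd)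
  have hcen := CfsgLib.Invol.zstar_center hiso hO
  rw [normal_eq_bot h hns (N := Subgroup.center G) inferInstance
    (Group.isSolvable_of_comm fun a b => mul_comm' a b), Subgroup.mem_bot] at hcen
  simp [hcen] at hz

theorem exists_invol_kernel : ∃ M, MaxSolv M ∧ ∃ t ∈ F M, orderOf t = 2 := by
  classical
  haveI : Fact (Nat.Prime 2) := ⟨Nat.prime_two⟩
  by_contra hc
  push Not at hc
  obtain ⟨S⟩ : Nonempty (Sylow 2 G) := inferInstance
  haveI : Nontrivial (S : Subgroup G) :=
    (Subgroup.nontrivial_iff_ne_bot _).2 (S.ne_bot_of_dvd_card (even_of_insolvable hns))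
  haveI := S.2.center_nontrivial
  obtain ⟨k, hk0, hk⟩ := (S.2.to_subgroup (Subgroup.center (S : Subgroup G))).nontrivial_iff_card.1
    inferInstance
  obtain ⟨z, hz⟩ := exists_prime_orderOf_dvd_card' (G := Subgroup.center (S : Subgroup G)) 2
    (hk ▸ dvd_pow_self 2 hk0.ne')
  have hz' : orderOf ((z : (S : Subgroup G)) : G) = 2 := by
    rw [Subgroup.orderOf_coe, Subgroup.orderOf_coe, hz]
  by_cases hu : ∀ s ∈ (S : Subgroup G), orderOf s = 2 → s = ((z : (S : Subgroup G)) : G)
  · exact false_of_unique h hns S hz' hu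
  push Not at hu
  obtain ⟨s, hs, hs2, hsz⟩ := hu
  refine hns (solvable_of_no_kernel h S fun M hM hSM => by_contra fun hF0 => ?_)
  obtain ⟨-, hnorm, -, -, -⟩ := h M hM
  have hnot : ∀ a ∈ (S : Subgroup G), a ∈ F M → a = 1 := by
    intro a ha haF
    by_contra ha1
    obtain ⟨j, hj⟩ := IsPGroup.iff_orderOf.1 S.2 ⟨a, ha⟩
    rw [Subgroup.orderOf_mk] at hj
    obtain ⟨i, rfl⟩ : ∃ i, j = i + 1 := ⟨j - 1, by
      rcases Nat.eq_zero_or_pos j with rfl | hj0
      · exact absurd (orderOf_eq_one_iff.1 (by rw [hj, pow_zero])) ha1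
      · omega⟩
    refine hc M hM (a ^ 2 ^ i) ((F M).pow_mem haF _) ?_
    rw [orderOf_pow' _ (by positivity), hj, Nat.gcd_eq_right (pow_dvd_pow 2 i.le_succ), pow_succ',
      Nat.mul_div_cancel _ (by positivity)]
  have hmem := CfsgLib.Solvable.mem_zpowers_of_fpf (H := (S : Subgroup G)) (K := F M) hF0
    (hSM.trans hnorm) (fun a ha ha1 => (Subgroup.eq_bot_iff_forall _).2 fun x hx => by
      by_contra hx1
      exact ha1 (hnot a ha (cent_le h hns hM hx.1 hx1
        (Subgroup.mem_centralizer_singleton_iff.1 hx.2).symm)))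
    hs (z : (S : Subgroup G)).2 (congrArg Subtype.val (Subgroup.mem_center_iff.1 z.2 ⟨s, hs⟩))
    (by rw [hs2, hz'])
  rw [← mem_powers_iff_mem_zpowers, (orderOf_pos_iff.1 (by rw [hz']; norm_num)).mem_powers_iff_mem_range_orderOf,
    hz'] at hmem
  simp only [Finset.mem_image, Finset.mem_range] at hmem
  obtain ⟨i, hi, rfl⟩ := hmem
  interval_cases i
  · simp at hs2
  · simp at hsz

theorem exists_ti : ∃ M K : Subgroup G, TI M K := by
  haveI : Fact (Nat.Prime 2) := ⟨Nat.prime_two⟩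
  obtain ⟨M, hM, t, ht, ht2⟩ := exists_invol_kernel h hns
  have ht1 : t ≠ 1 := fun e => by simp [e] at ht2
  obtain ⟨hFM, hnorm, -, -, -⟩ := h M hM
  refine ⟨M, F M, hFM, fun g hg x hx => (Subgroup.mem_normalizer_iff.1 (hnorm hg) x).1 hx,
    fun x hx hx1 g hg => cent_le h hns hM hx hx1 hg, fun g hg x hx hgx => ti_elem h hns hM hg hx hgx,
    hM.1, hns, ?_, fun u hu hu2 => ?_⟩
  · have := orderOf_dvd_natCard (⟨t, ht⟩ : F M)
    rwa [Subgroup.orderOf_mk, ht2] at this
  by_contra hc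
  push Not at hc
  obtain ⟨S, hS⟩ := (IsPGroup.of_card (n := 1) (by rw [Nat.card_zpowers, hu2, pow_one]) :
    IsPGroup 2 (Subgroup.zpowers u)).exists_le_sylow
  have huS := hS (Subgroup.mem_zpowers u)
  have hu1 : u ≠ 1 := fun e => by simp [e] at hu2
  haveI : Nontrivial (S : Subgroup G) := ⟨⟨⟨u, huS⟩, 1, fun e => hu1 (congrArg Subtype.val e)⟩⟩
  haveI := S.2.center_nontrivial
  obtain ⟨z, hz⟩ := exists_ne (1 : Subgroup.center (S : Subgroup G))
  have hzF := cent_le h hns hM hu hu1 (g := ((z : (S : Subgroup G)) : G))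
    (congrArg Subtype.val (Subgroup.mem_center_iff.1 z.2 ⟨u, huS⟩)).symm
  exact false_of_unique h hns S hu2 fun s hs hs2 => hc s (cent_le h hns hM hzF
    (fun e => hz (Subtype.ext (Subtype.ext e)))
    (congrArg Subtype.val (Subgroup.mem_center_iff.1 z.2 ⟨s, hs⟩))) hs2

omit h in
theorem isSLTwo_of_comm {M K : Subgroup G} (D : TI M K) (hK : ∀ a ∈ K, ∀ b ∈ K, a * b = b * a)
    (hcyc : ∀ S : Sylow 2 G, ¬ IsCyclic (S : Subgroup G))
    (hnn : ∀ S : Sylow 2 G, ¬ (S : Subgroup G).Normal) :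
    ∃ (L : Type) (_ : Field L) (_ : Fintype L), (∃ n : ℕ, 2 ≤ n ∧ Fintype.card L = 2 ^ n) ∧
      Nonempty (G ≃* Matrix.SpecialLinearGroup (Fin 2) L) := by
  haveI : Fact (Nat.Prime 2) := ⟨Nat.prime_two⟩
  have hconj : ∀ t : G, orderOf t = 2 → ∃ g : G,
      ∀ w : G, w ∈ Subgroup.centralizer ({t} : Set G) ↔ g⁻¹ * w * g ∈ K := by
    intro t ht
    obtain ⟨p, hp, -⟩ := D.fix_unique ht
    obtain ⟨g, rfl⟩ := QuotientGroup.mk_surjective p
    have htM := fix_iff.1 hp
    have ho : orderOf (g⁻¹ * t * g) = 2 := by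
      simpa [ht] using MulEquiv.orderOf_eq (MulAut.conj g⁻¹) t
    have htK := D.invol_mem ho htM
    have h1 : g⁻¹ * t * g ≠ 1 := fun e => by simp [e] at ho
    refine ⟨g, fun w => ?_⟩
    rw [Subgroup.mem_centralizer_singleton_iff]
    refine ⟨fun hw => D.cent _ htK h1 _ ?_, fun hw => ?_⟩
    · calc g⁻¹ * w * g * (g⁻¹ * t * g) = g⁻¹ * (w * t) * g := by group
        _ = g⁻¹ * (t * w) * g := by rw [hw]
        _ = _ := by group
    · have := hK _ hw _ htK
      calc w * t = g * ((g⁻¹ * w * g) * (g⁻¹ * t * g)) * g⁻¹ := by group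
        _ = g * ((g⁻¹ * t * g) * (g⁻¹ * w * g)) * g⁻¹ := by rw [this]
        _ = _ := by group
  have hC : CfsgLib.PGroup.CAI.CentAbelian G := by
    intro t ht
    obtain ⟨g, hg⟩ := hconj t ht
    refine ⟨⟨fun a b => Subtype.ext ?_⟩⟩
    have := hK _ ((hg _).1 a.2) _ ((hg _).1 b.2)
    exact mul_left_cancel (a := g⁻¹) (mul_right_cancel (b := g) (by
      simpa [mul_assoc] using this))
  have hfix : CfsgLib.PGroup.CAI.FixesOne G := by
    intro t ht k hk hk1 x hx
    obtain ⟨g, hg⟩ := hconj t ht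
    have hnorm : ∀ w : G, w ∈ Subgroup.normalizer (Subgroup.centralizer ({t} : Set G) : Set G) ↔
        g⁻¹ * w * g ∈ M := by
      intro w
      constructor
      · intro hw
        by_contra hwM
        obtain ⟨u, hu, hu2⟩ := D.exists_invol
        have h1 : g * u * g⁻¹ ∈ Subgroup.centralizer ({t} : Set G) := (hg _).2 (by simpa [mul_assoc])
        have h2 := (hg _).1 ((Subgroup.mem_normalizer_iff.1 hw _).1 h1)
        have h3 := D.ti _ hwM u hu (by simpa [mul_assoc] using h2)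
        simp [h3] at hu2
      · intro hw
        refine Subgroup.mem_normalizer_iff.2 fun v => ?_
        simp only [SetLike.mem_coe, hg]
        refine ⟨fun hv => ?_, fun hv => ?_⟩
        · simpa [mul_assoc] using D.norm _ hw _ hv
        · simpa [mul_assoc] using D.norm _ (M.inv_mem hw) _ hv
    rw [hnorm] at hx ⊢
    by_contra hxM
    have := D.inter_conj hxM ((hg k).1 hk) (by simpa [mul_assoc] using hx)
    exact hk1 (by
      rw [show k = g * (g⁻¹ * k * g) * g⁻¹ by group, this]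
      group)
  obtain ⟨T⟩ : Nonempty (Sylow 2 G) := inferInstance
  obtain ⟨L, iL, iL', hL, ⟨f⟩⟩ := CfsgLib.PGroup.CAI.psl_of_cai ⟨hcyc, hnn⟩ hC hfix T (hcyc T)
  obtain ⟨n, hn⟩ := IsPGroup.iff_card.1 T.2
  have hn2 : 2 ≤ n := by
    by_contra hlt
    rcases (show n = 0 ∨ n = 1 by omega) with rfl | rfl
    · have := Fintype.one_lt_card (α := L)
      rw [hL, hn] at this
      simp at this
    · exact hcyc T (isCyclic_of_prime_card (p := 2) (by rw [hn, pow_one]))
  haveI : CharP L 2 := charP_of_card_eq_prime_pow (hL.trans hn)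
  exact ⟨L, iL, iL', ⟨n, hn2, hL.trans hn⟩,
    ⟨f.trans (MulEquiv.ofBijective _ CfsgLib.PGroup.CAI.mk_bijective_even).symm⟩⟩

theorem sylow_not_normal (S : Sylow 2 G) : ¬ (S : Subgroup G).Normal := by
  haveI : Fact (Nat.Prime 2) := ⟨Nat.prime_two⟩
  intro hn
  refine S.ne_bot_of_dvd_card (even_of_insolvable hns) (normal_eq_bot h hns hn ?_)
  haveI := S.2.isNilpotent
  infer_instance

theorem sylow_not_cyclic (S : Sylow 2 G) : ¬ IsCyclic (S : Subgroup G) := by
  classical
  haveI : Fact (Nat.Prime 2) := ⟨Nat.prime_two⟩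
  intro hcyc
  haveI : Nontrivial (S : Subgroup G) :=
    (Subgroup.nontrivial_iff_ne_bot _).2 (S.ne_bot_of_dvd_card (even_of_insolvable hns))
  obtain ⟨k, hk0, hk⟩ := S.2.nontrivial_iff_card.1 inferInstance
  obtain ⟨⟨t, htS⟩, ht⟩ := exists_prime_orderOf_dvd_card' (G := (S : Subgroup G)) 2
    (hk ▸ dvd_pow_self 2 hk0.ne')
  rw [Subgroup.orderOf_mk] at ht
  refine false_of_unique h hns S ht fun v hvS hv => by_contra fun hvt => ?_
  haveI := Fintype.ofFinite (S : Subgroup G)
  have h2 := IsCyclic.card_pow_eq_one_le (α := (S : Subgroup G)) (n := 2) (by norm_num)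
  have h3 : ({1, ⟨t, htS⟩, ⟨v, hvS⟩} : Finset (S : Subgroup G)).card ≤ 2 := by
    refine le_trans (Finset.card_le_card ?_) h2
    intro s hs
    simp only [Finset.mem_insert, Finset.mem_singleton] at hs
    refine Finset.mem_filter.2 ⟨Finset.mem_univ _, ?_⟩
    rcases hs with rfl | rfl | rfl
    · exact one_pow 2
    · exact Subtype.ext (show t ^ 2 = 1 by rw [← ht]; exact pow_orderOf_eq_one t)
    · exact Subtype.ext (show v ^ 2 = 1 by rw [← hv]; exact pow_orderOf_eq_one v)
  rw [Finset.card_insert_of_notMem, Finset.card_pair] at h3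
  · omega
  · exact fun e => hvt (congrArg Subtype.val e).symm
  · simp only [Finset.mem_insert, Finset.mem_singleton, not_or]
    exact ⟨fun e => CfsgLib.Invol.ne_one_of_orderOf_two ht (congrArg Subtype.val e).symm,
      fun e => CfsgLib.Invol.ne_one_of_orderOf_two hv (congrArg Subtype.val e).symm⟩

omit h hns in
/-- A non-abelian kernel gives a Suzuki group. -/
theorem isoSuzuki_of_noncomm {M K : Subgroup G} (D : TI M K) (hK : ¬ IsMulCommutative K) :
    Cfsg.Lie.IsoSuzuki G := by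
  classical
  haveI := Fintype.ofFinite G
  haveI := Fintype.ofFinite (G ⧸ M)
  have hcard : Fintype.card (G ⧸ M) = Nat.card K + 1 := by
    rw [← Nat.card_eq_fintype_card, D.card_points]
  have hsimp : IsSimpleGroup G := Cfsg.Agent.S0338.result D.zassenhaus (by
    rw [hcard]; exact (Nat.even_iff.2 (Nat.mod_eq_zero_of_dvd D.even)).add_one)
  obtain ⟨g, hg⟩ : ∃ g : G, g ∉ M := by
    by_contra hc
    push Not at hc
    exact D.ne_top ((Subgroup.eq_top_iff' _).2 hc)
  have hp : (g : G ⧸ M) ≠ base M := fun e => hg (coe_eq_base.1 e)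
  have hle : K ≤ stabilizer G (base M) := by rw [stab_base]; exact D.le
  have hfix : ∀ u ∈ K, u ≠ 1 → ∀ c : G ⧸ M, u • c = c → c = base M := fun u hu hu1 c hc =>
    by_contra fun hcb => hu1 (D.free hu hcb hc)
  have he : Nat.card ↥(stabilizer G (base M) ⊓ stabilizer G (g : G ⧸ M) : Subgroup G) = ee M K := by
    rw [stab_base]
    exact (D.counts.2 _ hp).2
  rcases Cfsg.Agent.S0885.result D.zassenhaus hp.symm (Nat.card K) (ee M K) hcard he D.odd_ee K hle
    hcard.symm hfix with hsmall | ⟨h2, ⟨u, v, huv⟩, -⟩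
  · refine absurd (Cfsg.Agent.S0738.result D.zassenhaus hp.symm (by rw [hcard, he]; omega) K hle ?_
      (fun y z hy hz => D.regular hy hz)).1 hK
    refine ⟨fun n hn m => Subgroup.mem_subgroupOf.2 (D.norm m ?_ n (Subgroup.mem_subgroupOf.1 hn))⟩
    exact smul_base_eq.1 m.2
  · exact CfsgLib.SuzukiUniq.iso_suzuki ⟨D.zassenhaus, hsimp, hp.symm, hle, hcard.symm, hfix, h2,
      ⟨u, u.2, v, v.2, fun e => huv (Subtype.ext e)⟩⟩

/-- The classification. -/
theorem main : (∃ (L : Type) (_ : Field L) (_ : Fintype L), (∃ n : ℕ, 2 ≤ n ∧ Fintype.card L = 2 ^ n) ∧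
        Nonempty (G ≃* Matrix.SpecialLinearGroup (Fin 2) L)) ∨ Cfsg.Lie.IsoSuzuki G := by
  obtain ⟨M, K, D⟩ := exists_ti h hns
  by_cases hK : IsMulCommutative K
  · exact Or.inl (isSLTwo_of_comm hns D (fun a ha b hb => congrArg Subtype.val
      (hK.is_comm.comm ⟨a, ha⟩ ⟨b, hb⟩)) (sylow_not_cyclic h hns) (sylow_not_normal h hns))
  · exact Or.inr (isoSuzuki_of_noncomm D hK)

end CfsgLib.FrobSystem
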